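import Cfsg.Agent.Lib.Spor.HeldTri.AmM24.Data
import Cfsg.Agent.Lib.Spor.HeldTri.AmM24.Rels

/-!
# The finite checks for one amalgam
-/

set_option autoImplicit false
set_option maxRecDepth 100000

namespace CfsgLib.Spor.HeldTri.AmM24

open CfsgLib.Spor.TC CfsgLib.Spor.HeldFusion CfsgLib.Spor.HeldRecog.Amalgam

/-- The amalgam. -/
def am : AmData :=
  ⟨dataA, dataB, lettersA, lettersB, tableB, sharedA, sharedB, hPart, hShift, hShiftB, hPartB, glueB, crit,
    relsP, orbitWordsA, orbitWordsB⟩

theorem dataA_valid : dataA.Valid labA :=
  ⟨by decide, by decide +kernel, by decide +kernel, by decide +kernel, by decide +kernel, by decide +kernel,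
    by decide +kernel, by decide +kernel, by decide +kernel, by decide +kernel, by decide +kernel,
    by decide +kernel, by decide +kernel, by decide +kernel⟩

theorem dataB_valid : dataB.Valid labB :=
  ⟨by decide, by decide +kernel, by decide +kernel, by decide +kernel, by decide +kernel, by decide +kernel,
    by decide +kernel, by decide +kernel, by decide +kernel, by decide +kernel, by decide +kernel,
    by decide +kernel, by decide +kernel, by decide +kernel⟩

theorem am_valid : am.Valid :=
  ⟨rfl, rfl, rfl, dataA_valid, dataB_valid, by decide +kernel, by decide +kernel, by decide +kernel,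
    by decide +kernel, by decide +kernel, by decide +kernel, by decide +kernel, by decide +kernel⟩

end CfsgLib.Spor.HeldTri.AmM24
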