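import Cfsg.Agent.Lib.Spor.HeldTri.AmM24.Rels
import Cfsg.Agent.Lib.Spor.TC.Word
import Cfsg.Agent.Lib.Spor.MathieuSimple

/-!
# Seven involutions of the Mathieu group of degree 24

They satisfy the relators of the amalgam and generate.
-/

set_option autoImplicit false
set_option maxRecDepth 100000

namespace CfsgLib.Spor.HeldTri.AmM24

open CfsgLib.Spor CfsgLib.Spor.TC Cfsg

/-- The seven involutions as packed permutations. -/
def lettersM : List ℕ := [651239579074641248992907580101724192, 984490757400711034068282643818023937, 652497103362824815158307124989362498, 403274420442550713734521033187525706, 720984660642396493710848019525677290, 479664551146603291883223180971674951, 263998422390762396008064613114008168]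

/-- The code of a letter. -/
def codeM (i : ℕ) : ℕ := lettersM.getD i 984818244535754528103549039458486304

/-- The image of a point under a word. -/
noncomputable def wapp (l : List ℕ) (v : ℕ) : ℕ :=
  List.rec (motive := fun _ => ℕ) v (fun a _ ih => permFn (codeM a) ih) l

theorem codeM_ok : ((List.range 8).all fun i => isM24Code (codeM i) &&
    ((List.range 24).all fun v => permFn (codeM i) (permFn (codeM i) v) == v &&
      (decide (i < 7) || permFn (codeM i) v == v))) = true := by decide +kernel

theorem codeM_out {i : ℕ} (hi : 7 ≤ i) : codeM i = codeM 7 := by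
  rw [codeM, codeM, List.getD_eq_default _ _ (by simpa [lettersM] using hi),
    List.getD_eq_default _ _ (by simp [lettersM])]

theorem codeM_facts (i : ℕ) : isM24Code (codeM i) = true ∧ ∀ v < 24,
    permFn (codeM i) (permFn (codeM i) v) = v ∧ (7 ≤ i → permFn (codeM i) v = v) := by
  have h := codeM_ok
  simp only [List.all_eq_true, List.mem_range, Bool.and_eq_true, beq_iff_eq, Bool.or_eq_true,
    decide_eq_true_eq] at h
  rcases Nat.lt_or_ge i 7 with hi | hi
  · exact ⟨(h i (by omega)).1, fun v hv => ⟨((h i (by omega)).2 v hv).1, fun h7 => by omega⟩⟩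
  · rw [codeM_out hi]
    exact ⟨(h 7 (by norm_num)).1, fun v hv => ⟨((h 7 (by norm_num)).2 v hv).1,
      fun _ => ((h 7 (by norm_num)).2 v hv).2.resolve_left (by norm_num)⟩⟩

/-- The seven involutions. -/
noncomputable def mM (i : ℕ) : M24 := ⟨permOf (codeM i), permOf_mem_M24 (codeM_facts i).1⟩

theorem ev_idx : ∀ (l : List ℕ) {v : ℕ}, v < 24 →
    ((ev mM l : M24) : Equiv.Perm GolayPt) (idxPt v) = idxPt (wapp l v) ∧ wapp l v < 24
  | [], v, hv => ⟨by simp [ev, wapp], hv⟩
  | a :: l, v, hv => by
    obtain ⟨h1, h2⟩ := ev_idx l hv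
    have hp := isPermCode_of_isM24Code (codeM_facts a).1
    refine ⟨?_, permFn_lt hp h2⟩
    rw [ev_cons, Subgroup.coe_mul, Equiv.Perm.mul_apply, h1]
    exact permOf_idxPt hp h2

theorem eq_of_idx {x y : Equiv.Perm GolayPt} (h : ∀ v < 24, x (idxPt v) = y (idxPt v)) : x = y :=
  Equiv.ext fun p => by rw [← idxPt_ptIdx p]; exact h _ (ptIdx_lt p)

theorem rels_model : (relsP.all fun r => r.2 == 1 && (List.range 24).all fun v => wapp r.1 v == v) = true := by
  decide +kernel

theorem sat_mM : Sat 7 relsP mM := by
  refine ⟨fun x => Subtype.ext (eq_of_idx fun v hv => ?_), fun x hx => Subtype.ext (eq_of_idx fun v hv => ?_),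
    fun r hr => ?_⟩
  · have hp := isPermCode_of_isM24Code (codeM_facts x).1
    show permOf (codeM x) (permOf (codeM x) (idxPt v)) = _
    rw [permOf_idxPt hp hv, permOf_idxPt hp (permFn_lt hp hv), ((codeM_facts x).2 v hv).1]
    rfl
  · show permOf (codeM x) (idxPt v) = _
    rw [permOf_idxPt (isPermCode_of_isM24Code (codeM_facts x).1) hv, ((codeM_facts x).2 v hv).2 hx]
    rfl
  · have h := List.all_eq_true.1 rels_model r hr
    simp only [Bool.and_eq_true, beq_iff_eq, List.all_eq_true, List.mem_range] at h
    rw [h.1, pow_one]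
    refine Subtype.ext (eq_of_idx fun v hv => ?_)
    rw [(ev_idx r.1 hv).1, h.2 v hv]
    rfl

/-- Words giving three generators. -/
def genWords : List (List ℕ) := [[4, 2, 6, 5, 6, 2, 1, 4, 6, 2, 4, 3, 6], [0, 3, 4, 6, 4, 6, 2, 6, 4, 2, 6, 2, 6, 4, 3], [4, 2, 5, 6, 4, 2, 0, 4, 6, 2, 4, 6, 4, 2, 6, 4]]

theorem gen_model : ((List.range 24).all fun v => wapp (genWords.getD 0 []) v == permFn shiftCode v &&
    wapp (genWords.getD 1 []) v == permFn projInvCode v && wapp (genWords.getD 2 []) v == permFn cubeTwistCode v &&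
    isPermCode shiftCode && isPermCode projInvCode && isPermCode cubeTwistCode) = true := by decide +kernel

theorem ev_mem_range (g : ℕ → M24) : ∀ l : List ℕ, ev g l ∈ Subgroup.closure (Set.range g)
  | [] => by simp [ev]
  | a :: l => by rw [ev_cons]; exact mul_mem (Subgroup.subset_closure ⟨a, rfl⟩) (ev_mem_range g l)

theorem closure_mM : Subgroup.closure (Set.range mM) = ⊤ := by
  refine Subgroup.map_injective (f := M24.subtype) Subtype.val_injective ?_
  rw [← MonoidHom.range_eq_map, Subgroup.range_subtype]
  refine le_antisymm (fun x hx => ?_) ?_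
  · obtain ⟨y, -, rfl⟩ := hx
    exact y.2
  have h := gen_model
  simp only [List.all_eq_true, List.mem_range, Bool.and_eq_true, beq_iff_eq] at h
  have key : ∀ (k C : ℕ), (∀ v < 24, wapp (genWords.getD k []) v = permFn C v) → isPermCode C = true →
      permOf C ∈ (Subgroup.closure (Set.range mM)).map M24.subtype := fun k C hk hC =>
    ⟨ev mM (genWords.getD k []), ev_mem_range mM _, eq_of_idx fun v hv => by
      rw [Subgroup.coe_subtype, (ev_idx _ hv).1, hk v hv, permOf_idxPt hC hv]⟩
  have h0 := h 0 (by norm_num)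
  conv_lhs => rw [← closure_generators]
  rw [Subgroup.closure_le]
  rintro g (rfl | rfl | rfl)
  · rw [shift_eq]; exact key 0 _ (fun v hv => (h v hv).1.1.1.1.1) h0.1.1.2
  · rw [projInv_eq]; exact key 1 _ (fun v hv => (h v hv).1.1.1.1.2) h0.1.2
  · rw [cubeTwist_eq]; exact key 2 _ (fun v hv => (h v hv).1.1.1.2) h0.2

end CfsgLib.Spor.HeldTri.AmM24
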